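import Cfsg.Agent.Lib.Perm.SylowFixed.Chain

/-!
Consequences: the bound on orbits of subgroups, on the number of orbits of a Sylow subgroup,
and on the number of Sylow subgroups of an overgroup of a Sylow subgroup.
-/

namespace Cfsg.Agent.SylowFix

open MulAction

universe u v

variable {G : Type u} [Group G] [Finite G] {p : ℕ} [hp : Fact p.Prime]

theorem orbit_bound {Ω : Type v} [MulAction G Ω] [Finite Ω] {X : Subgroup G}
    (hXgen : pGen p X = X) {R : Sylow p G} (hR : (R : Subgroup G) ≤ X) {w : Ω}
    (hw : w ∉ fixSet X) :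
    (2 * p - 1) * (orbit X w ∩ fixSet (R : Subgroup G)).ncard ≤
      (p - 1) * (orbit X w).ncard := by
  have ho2 : 2 ≤ Nat.card (orbit X w) := by
    rw [mem_fixSet] at hw
    push_neg at hw
    obtain ⟨g, hg, hne⟩ := hw
    rw [Nat.card_coe_set_eq]
    exact (Set.one_lt_ncard (Set.toFinite _)).2
      ⟨g • w, ⟨⟨g, hg⟩, rfl⟩, w, mem_orbit_self w, hne⟩
  have := bound ↥X (orbit X w) inferInstance ho2 (gen_subtype hXgen) (R.subtype hR)
  rw [Nat.card_coe_set_eq] at this
  have e : orbit X w ∩ fixSet (R : Subgroup G) =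
      Subtype.val '' (fixSet ((R.subtype hR : Sylow p ↥X) : Subgroup ↥X) :
        Set (orbit X w)) := by
    ext v
    constructor
    · rintro ⟨hv, hfix⟩
      refine ⟨⟨v, hv⟩, fun g hg => Subtype.ext ?_, rfl⟩
      rw [Sylow.coe_subtype, Subgroup.mem_subgroupOf] at hg
      exact hfix _ hg
    · rintro ⟨⟨v, hv⟩, hfix, rfl⟩
      refine ⟨hv, fun g hg => ?_⟩
      have := hfix ⟨g, hR hg⟩ (by rw [Sylow.coe_subtype, Subgroup.mem_subgroupOf]; exact hg)
      exact congrArg Subtype.val this
  rw [e, Set.ncard_image_of_injective _ Subtype.val_injective]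
  exact this

/-- The orbit count of a Sylow subgroup of a transitive group. -/
theorem orbit_count_bound {Ω : Type v} [MulAction G Ω] [FaithfulSMul G Ω] [Finite Ω]
    (htrans : IsPretransitive G Ω) (hpG : p ∣ Nat.card G) (P : Sylow p G) :
    (2 * p - 1) * Nat.card (orbitRel.Quotient ↥(P : Subgroup G) Ω) ≤ p * Nat.card Ω := by
  classical
  haveI := Fintype.ofFinite Ω
  haveI := htrans
  set N := pGen p (⊤ : Subgroup G) with hN
  have hPN : (P : Subgroup G) ≤ N := isPGroup_le_pGen P.isPGroup' le_top
  have hne : ∀ w : Ω, w ∉ (fixSet N : Set Ω) := by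
    intro w hw
    refine P.ne_bot_of_dvd_card hpG ((Subgroup.eq_bot_iff_forall _).2 fun x hx => ?_)
    refine FaithfulSMul.eq_of_smul_eq_smul (α := Ω) fun v => ?_
    obtain ⟨g, rfl⟩ := MulAction.exists_smul_eq G w v
    have h1 : cj g N = N := by
      rw [hN, ← pGen_cj]
      congr 1
      exact (Subgroup.eq_top_iff' _).2 fun a => mem_cj.2 trivial
    rw [one_smul]
    exact (h1 ▸ smul_mem_fixSet_cj.2 hw : g • w ∈ fixSet N) x (hPN hx)
  set F : Set Ω := fixSet (P : Subgroup G) with hF
  have hb : (2 * p - 1) * F.ncard ≤ (p - 1) * Nat.card Ω := by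
    have := invariant_bound N F Set.univ (2 * p - 1) (p - 1) (fun _ _ _ _ => trivial)
      fun w _ => orbit_bound (pGen_idem _) hPN (hne w)
    rwa [Set.univ_inter, Set.ncard_univ] at this
  set q := Nat.card (orbitRel.Quotient ↥(P : Subgroup G) Ω) with hq
  have hcount : p * q ≤ Nat.card Ω + (p - 1) * F.ncard := by
    haveI : Fintype (orbitRel.Quotient ↥(P : Subgroup G) Ω) := Fintype.ofFinite _
    let π : Ω → orbitRel.Quotient ↥(P : Subgroup G) Ω := Quotient.mk''
    have hn : Nat.card Ω = ∑ o, (Finset.univ.filter fun w => π w = o).card := by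
      rw [Nat.card_eq_fintype_card, ← Finset.card_univ]
      exact Finset.card_eq_sum_card_fiberwise fun w _ => Finset.mem_univ _
    have hf : F.ncard = ∑ o, ((Finset.univ.filter fun w => π w = o).filter (· ∈ F)).card := by
      rw [Set.ncard_eq_toFinset_card', Finset.card_eq_sum_card_fiberwise (f := π) (t := Finset.univ)
        (fun w _ => Finset.mem_univ _)]
      refine Finset.sum_congr rfl fun o _ => ?_
      congr 1
      ext w
      simp [and_comm]
    rw [hn, hf, Finset.mul_sum, ← Finset.sum_add_distrib, hq, Nat.card_eq_fintype_card,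
      ← Finset.card_univ, mul_comm, ← smul_eq_mul, ← Finset.sum_const]
    refine Finset.sum_le_sum fun o _ => ?_
    induction o using Quotient.inductionOn' with
    | h w =>
      set S := Finset.univ.filter fun v => π v = Quotient.mk'' w with hS
      have hcard : S.card = (orbit (P : Subgroup G) w).ncard := by
        rw [Set.ncard_eq_toFinset_card']
        congr 1
        ext v
        rw [hS]
        simp only [Finset.mem_filter, Finset.mem_univ, true_and, Set.mem_toFinset]
        exact Quotient.eq''.trans orbitRel_apply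
      obtain ⟨n, hn⟩ := P.isPGroup'.card_orbit w
      rw [Nat.card_coe_set_eq, ← hcard] at hn
      rcases Nat.eq_zero_or_pos n with h0 | h0
      · rw [h0, pow_zero] at hn
        have hwS : w ∈ S := by simp [hS, π]
        have hwF : w ∈ F := by
          intro g hg
          obtain ⟨c, hc⟩ := Finset.card_eq_one.1 hn
          have : g • w ∈ S := by
            simp only [hS, Finset.mem_filter, Finset.mem_univ, true_and, π]
            exact Quotient.eq''.2 (orbitRel_apply.2 ⟨⟨g, hg⟩, rfl⟩)
          rw [hc, Finset.mem_singleton] at hwS this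
          rw [this, hwS]
        have h1 : 1 ≤ (S.filter (· ∈ F)).card :=
          Finset.card_pos.2 ⟨w, Finset.mem_filter.2 ⟨hwS, hwF⟩⟩
        have := hp.out.two_le
        calc p = 1 + (p - 1) * 1 := by omega
          _ ≤ S.card + (p - 1) * (S.filter (· ∈ F)).card := by
            rw [hn]; exact Nat.add_le_add_left (Nat.mul_le_mul_left _ h1) _
      · rw [hn]
        exact le_add_right (Nat.le_self_pow h0.ne' p)
  obtain ⟨r, hr⟩ : ∃ r, p = r + 1 := ⟨p - 1, by have := hp.out.two_le; omega⟩
  subst hr
  simp only [Nat.add_sub_cancel] at hb hcount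
  have e : 2 * (r + 1) - 1 = 2 * r + 1 := by omega
  rw [e] at hb ⊢
  refine (Nat.mul_le_mul_left_iff (show 0 < r + 1 by omega)).1 ?_
  nlinarith [Nat.mul_le_mul_left r hb, Nat.mul_le_mul_left (2 * r + 1) hcount]

/-- The number of Sylow subgroups of a proper overgroup of a Sylow subgroup. -/
theorem sylow_number_bound (hgen : pGen p (⊤ : Subgroup G) = ⊤) (H : Subgroup G) (hH : H ≠ ⊤)
    (P : Sylow p G) (hP : (P : Subgroup G) ≤ H) :
    (2 * p - 1) * Nat.card (Sylow p ↥H) ≤ (p - 1) * Nat.card (Sylow p G) := by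
  classical
  haveI := Fintype.ofFinite (G ⧸ H)
  haveI := Fintype.ofFinite (Sylow p G)
  set f := (fixSet (P : Subgroup G) : Set (G ⧸ H)).ncard with hf
  have h2 : 2 ≤ Nat.card (G ⧸ H) := by
    rw [← Subgroup.index]
    have h0 : H.index ≠ 0 := Subgroup.index_ne_zero_of_finite
    have h1 : H.index ≠ 1 := fun h => hH (Subgroup.index_eq_one.1 h)
    omega
  have hb := bound G (G ⧸ H) inferInstance h2 hgen P
  have hfix : ∀ (Q : Sylow p G) (g : G),
      ((g : G ⧸ H) ∈ fixSet (Q : Subgroup G)) ↔ ((g⁻¹ • Q : Sylow p G) : Subgroup G) ≤ H := by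
    intro Q g
    rw [smul_sylow_eq_cj]
    constructor
    · intro h x hx
      have := h _ (mem_cj.1 hx)
      rw [MulAction.Quotient.smul_coe, eq_comm, QuotientGroup.eq] at this
      simpa [mul_assoc] using this
    · intro h x hx
      rw [MulAction.Quotient.smul_coe, eq_comm, QuotientGroup.eq, smul_eq_mul, ← mul_assoc]
      exact h (mem_cj.2 (by simpa [mul_assoc] using hx))
  -- double count the incidences between Sylow subgroups and cosets
  have hrow : ∀ Q : Sylow p G, (fixSet (Q : Subgroup G) : Set (G ⧸ H)).ncard = f := by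
    intro Q
    obtain ⟨g, rfl⟩ := MulAction.exists_smul_eq G P Q
    rw [smul_sylow_eq_cj, fixSet_cj, Set.ncard_image_of_injective _ (MulAction.injective g)]
  have hcol : ∀ c : G ⧸ H,
      {Q : Sylow p G | c ∈ fixSet (Q : Subgroup G)}.ncard = Nat.card (Sylow p ↥H) := by
    intro c
    induction c using QuotientGroup.induction_on with
    | H g =>
      have e : {Q : Sylow p G | (g : G ⧸ H) ∈ fixSet (Q : Subgroup G)} =
          (g • ·) '' {Q : Sylow p G | (Q : Subgroup G) ≤ H} := by
        ext Q
        constructor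
        · exact fun h => ⟨g⁻¹ • Q, (hfix Q g).1 h, smul_inv_smul g Q⟩
        · rintro ⟨Q', hQ', rfl⟩
          refine (hfix _ g).2 ?_
          rw [inv_smul_smul]
          exact hQ'
      rw [e, Set.ncard_image_of_injective _ (MulAction.injective g), ← Nat.card_coe_set_eq]
      refine Nat.card_congr (Equiv.ofBijective
        (fun Q : {Q : Sylow p G | (Q : Subgroup G) ≤ H} => (Q.1.subtype Q.2 : Sylow p ↥H))
        ⟨fun a b hab => Subtype.ext (Sylow.subtype_injective hab), fun R => ?_⟩)
      obtain ⟨h, hh⟩ := MulAction.exists_smul_eq ↥H (P.subtype hP) R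
      refine ⟨⟨(h : G) • P, Sylow.smul_le hP h⟩, ?_⟩
      rw [← hh]
      exact (Sylow.smul_subtype hP h).symm
  have hdc : Nat.card (Sylow p G) * f = Nat.card (G ⧸ H) * Nat.card (Sylow p ↥H) := by
    have h := Finset.sum_card_bipartiteAbove_eq_sum_card_bipartiteBelow
      (fun (Q : Sylow p G) (c : G ⧸ H) => c ∈ fixSet (Q : Subgroup G))
      (s := Finset.univ) (t := Finset.univ)
    rw [Finset.sum_congr rfl (g := fun _ => f), Finset.sum_const, Finset.sum_congr rfl
      (g := fun _ => Nat.card (Sylow p ↥H)) , Finset.sum_const, Finset.card_univ, Finset.card_univ,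
      smul_eq_mul, smul_eq_mul, ← Nat.card_eq_fintype_card, ← Nat.card_eq_fintype_card] at h
    · exact h
    · intro c _
      rw [← hcol c, Set.ncard_eq_toFinset_card']
      congr 1
      ext Q
      simp [Finset.bipartiteBelow]
    · intro Q _
      rw [← hrow Q, Set.ncard_eq_toFinset_card']
      congr 1
      ext c
      simp [Finset.bipartiteAbove]
  refine (Nat.mul_le_mul_left_iff (show 0 < Nat.card (G ⧸ H) by omega)).1 ?_
  calc Nat.card (G ⧸ H) * ((2 * p - 1) * Nat.card (Sylow p ↥H))
      = (2 * p - 1) * (Nat.card (G ⧸ H) * Nat.card (Sylow p ↥H)) := by ring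
    _ = Nat.card (Sylow p G) * ((2 * p - 1) * f) := by rw [← hdc]; ring
    _ ≤ Nat.card (Sylow p G) * ((p - 1) * Nat.card (G ⧸ H)) := Nat.mul_le_mul_left _ hb
    _ = Nat.card (G ⧸ H) * ((p - 1) * Nat.card (Sylow p G)) := by ring

end Cfsg.Agent.SylowFix
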