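import Mathlib

/-!
Tools for the bound on the number of fixed points of a Sylow subgroup in a transitive
group generated by elements of prime power order: the subgroup generated by the
`p`-elements, fixed point sets, conjugation, and counting over orbits.
-/

namespace Cfsg.Agent.SylowFix

open MulAction

universe u v

variable {G : Type u} [Group G] {Ω : Type v} [MulAction G Ω] {p : ℕ}

/-- The subgroup generated by the `p`-elements of `X`. -/
def pGen (p : ℕ) (X : Subgroup G) : Subgroup G :=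
  Subgroup.closure {g | g ∈ X ∧ ∃ k, orderOf g = p ^ k}

/-- `X` contains a Sylow `p`-subgroup of the whole group. -/
def Full (p : ℕ) (X : Subgroup G) : Prop := ∃ R : Sylow p G, (R : Subgroup G) ≤ X

/-- The set of points fixed by every element of `X`. -/
def fixSet (X : Subgroup G) : Set Ω := {w | ∀ g ∈ X, g • w = w}

/-- Conjugate subgroup. -/
def cj (g : G) (X : Subgroup G) : Subgroup G := X.map (MulAut.conj g).toMonoidHom

theorem mem_cj {g h : G} {X : Subgroup G} : h ∈ cj g X ↔ g⁻¹ * h * g ∈ X := by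
  constructor
  · rintro ⟨x, hx, rfl⟩
    simpa [MulAut.conj_apply, mul_assoc] using hx
  · intro hx
    exact ⟨g⁻¹ * h * g, hx, by simp [MulAut.conj_apply, mul_assoc]⟩

theorem card_cj (g : G) (X : Subgroup G) : Nat.card (cj g X) = Nat.card X :=
  (Nat.card_congr (X.equivMapOfInjective _ (MulEquiv.injective (MulAut.conj g))).toEquiv).symm

theorem cj_mono (g : G) {X Y : Subgroup G} (h : X ≤ Y) : cj g X ≤ cj g Y :=
  Subgroup.map_mono h

theorem cj_one (X : Subgroup G) : cj (1 : G) X = X := by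
  ext h; simp [mem_cj]

theorem cj_cj (g h : G) (X : Subgroup G) : cj g (cj h X) = cj (g * h) X := by
  ext k; simp [mem_cj, mul_assoc]

theorem mem_normalizer_iff_cj {h : G} {K : Subgroup G} :
    h ∈ Subgroup.normalizer (K : Set G) ↔ cj h K = K := by
  rw [Subgroup.mem_normalizer_iff]
  constructor
  · intro hn
    ext k
    rw [mem_cj, hn (h⁻¹ * k * h)]
    simp [mul_assoc]
  · intro he k
    conv_rhs => rw [← he]
    simp [mem_cj, mul_assoc]

theorem orderOf_conj_eq (g h : G) : orderOf (g * h * g⁻¹) = orderOf h :=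
  (MulAut.conj g).orderOf_eq h

theorem pGen_le (X : Subgroup G) : pGen p X ≤ X :=
  (Subgroup.closure_le _).2 fun _ hg => hg.1

theorem mem_pGen {X : Subgroup G} {g : G} (hg : g ∈ X) (k : ℕ) (hk : orderOf g = p ^ k) :
    g ∈ pGen p X :=
  Subgroup.subset_closure ⟨hg, k, hk⟩

theorem pGen_mono {X Y : Subgroup G} (h : X ≤ Y) : pGen p X ≤ pGen p Y :=
  Subgroup.closure_mono fun _ hg => ⟨h hg.1, hg.2⟩

theorem pGen_idem (X : Subgroup G) : pGen p (pGen p X) = pGen p X := by
  refine le_antisymm (pGen_le _) ((Subgroup.closure_le _).2 ?_)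
  rintro g ⟨hg, k, hk⟩
  exact mem_pGen (mem_pGen hg k hk) k hk

theorem pGen_le_pGen {X Y : Subgroup G} (h : pGen p X ≤ Y) : pGen p X ≤ pGen p Y :=
  (pGen_idem X).ge.trans (pGen_mono h)

theorem pGen_cj (g : G) (X : Subgroup G) : pGen p (cj g X) = cj g (pGen p X) := by
  unfold pGen
  conv_rhs => unfold cj
  rw [MonoidHom.map_closure]
  congr 1
  ext h
  constructor
  · rintro ⟨hh, k, hk⟩
    refine ⟨g⁻¹ * h * g, ⟨mem_cj.1 hh, k, ?_⟩, by simp [MulAut.conj_apply, mul_assoc]⟩
    rw [← hk]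
    conv_rhs => rw [← orderOf_conj_eq g⁻¹ h]
    rw [inv_inv]
  · rintro ⟨x, ⟨hx, k, hk⟩, rfl⟩
    exact ⟨⟨x, hx, rfl⟩, k, by
      rw [← hk]; exact orderOf_conj_eq g x⟩

theorem isPGroup_le_pGen [Fact p.Prime] [Finite G] {R X : Subgroup G} (hR : IsPGroup p R)
    (h : R ≤ X) : R ≤ pGen p X := by
  intro g hg
  obtain ⟨k, hk⟩ := IsPGroup.iff_orderOf.1 hR ⟨g, hg⟩
  exact mem_pGen (h hg) k (by rw [← hk, Subgroup.orderOf_mk])

theorem Full.mono {X Y : Subgroup G} (h : Full p X) (hXY : X ≤ Y) : Full p Y :=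
  h.imp fun _ hR => hR.trans hXY

theorem Full.pGen [Fact p.Prime] [Finite G] {X : Subgroup G} (h : Full p X) :
    Full p (SylowFix.pGen p X) :=
  h.imp fun R hR => isPGroup_le_pGen R.isPGroup' hR

theorem smul_sylow_eq_cj (g : G) (R : Sylow p G) :
    ((g • R : Sylow p G) : Subgroup G) = cj g (R : Subgroup G) := by
  ext h
  rw [Sylow.coe_subgroup_smul, Subgroup.mem_pointwise_smul_iff_inv_smul_mem, mem_cj]
  simp [MulAut.conj_apply, MulAut.smul_def, mul_assoc]

theorem Full.cj {X : Subgroup G} (h : Full p X) (g : G) : Full p (SylowFix.cj g X) := by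
  obtain ⟨R, hR⟩ := h
  exact ⟨g • R, by rw [smul_sylow_eq_cj]; exact cj_mono g hR⟩

theorem mem_fixSet {X : Subgroup G} {w : Ω} : w ∈ fixSet X ↔ ∀ g ∈ X, g • w = w := Iff.rfl

theorem fixSet_anti {X Y : Subgroup G} (h : X ≤ Y) :
    (fixSet Y : Set Ω) ⊆ fixSet X := fun _ hw g hg => hw g (h hg)

theorem fixSet_cj (g : G) (X : Subgroup G) :
    (fixSet (cj g X) : Set Ω) = (g • ·) '' fixSet X := by
  ext w
  constructor
  · intro hw
    refine ⟨g⁻¹ • w, fun x hx => ?_, by simp⟩
    have := hw (g * x * g⁻¹) (mem_cj.2 (by simpa [mul_assoc] using hx))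
    rw [eq_inv_smul_iff]
    rwa [smul_smul, smul_smul]
  · rintro ⟨v, hv, rfl⟩ h hh
    have := hv _ (mem_cj.1 hh)
    rwa [mul_assoc, mul_smul, inv_smul_eq_iff, mul_smul] at this

theorem smul_mem_fixSet_cj {g : G} {X : Subgroup G} {w : Ω} :
    g • w ∈ fixSet (cj g X) ↔ w ∈ fixSet X := by
  rw [fixSet_cj]
  exact (MulAction.injective g).mem_set_image

theorem le_fixing_iff {X : Subgroup G} {A : Set Ω} :
    X ≤ fixingSubgroup G A ↔ A ⊆ fixSet X := by
  constructor
  · exact fun h w hw g hg => (mem_fixingSubgroup_iff G).1 (h hg) w hw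
  · exact fun h g hg => (mem_fixingSubgroup_iff G).2 fun w hw => h hw g hg

theorem pGen_le_pGen_fixing {X : Subgroup G} {A : Set Ω} (h : A ⊆ fixSet (pGen p X)) :
    pGen p X ≤ pGen p (fixingSubgroup G A) :=
  pGen_le_pGen (le_fixing_iff.2 h)

theorem subset_fixSet_pGen_fixing (A : Set Ω) :
    A ⊆ fixSet (pGen p (fixingSubgroup G A)) :=
  le_fixing_iff.1 (pGen_le _)

theorem fixing_image (g : G) (A : Set Ω) :
    fixingSubgroup G ((g • ·) '' A) = cj g (fixingSubgroup G A) := by
  ext h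
  simp only [mem_fixingSubgroup_iff, mem_cj, Set.forall_mem_image]
  refine forall₂_congr fun a _ => ?_
  rw [mul_assoc, mul_smul, inv_smul_eq_iff, mul_smul]

/-- A `p`-element normalising a subgroup that contains a Sylow `p`-subgroup lies in it. -/
theorem mem_of_normalizes [Fact p.Prime] [Finite G] {K : Subgroup G} (hK : Full p K) {g : G}
    {k : ℕ} (hg : orderOf g = p ^ k) (hn : cj g K = K) : g ∈ K := by
  obtain ⟨R, hR⟩ := hK
  set N : Subgroup G := Subgroup.normalizer (K : Set G) with hN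
  have hKN : K ≤ N := Subgroup.le_normalizer
  haveI : (K.subgroupOf N).Normal := Subgroup.normal_in_normalizer
  let gN : ↥N := ⟨g, mem_normalizer_iff_cj.2 hn⟩
  have h1 : orderOf (QuotientGroup.mk' (K.subgroupOf N) gN) ∣ p ^ k := by
    refine (orderOf_map_dvd _ _).trans ?_
    rw [← hg, Subgroup.orderOf_mk]
  have h2 : orderOf (QuotientGroup.mk' (K.subgroupOf N) gN) ∣ K.index := by
    refine (orderOf_dvd_natCard _).trans ?_
    exact Subgroup.relIndex_dvd_index_of_le hKN
  have h3 : ¬ p ∣ K.index := fun h =>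
    R.not_dvd_index (h.trans (Subgroup.index_dvd_of_le hR))
  have h4 : orderOf (QuotientGroup.mk' (K.subgroupOf N) gN) = 1 := by
    apply Nat.eq_one_of_dvd_coprimes ?_ h1 h2
    exact Nat.Coprime.pow_left k ((Fact.out : p.Prime).coprime_iff_not_dvd.2 h3)
  rw [orderOf_eq_one_iff, QuotientGroup.mk'_apply, QuotientGroup.eq_one_iff] at h4
  exact h4

/-- Orbitwise bounds sum up to a bound on every invariant set. -/
theorem invariant_bound [Finite Ω] (X : Subgroup G) (F W : Set Ω) (a b : ℕ)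
    (hinv : ∀ g ∈ X, ∀ w ∈ W, g • w ∈ W)
    (horb : ∀ w ∈ W, a * (orbit X w ∩ F).ncard ≤ b * (orbit X w).ncard) :
    a * (W ∩ F).ncard ≤ b * W.ncard := by
  suffices H : ∀ N, ∀ W : Set Ω, W.ncard = N → (∀ g ∈ X, ∀ w ∈ W, g • w ∈ W) →
      (∀ w ∈ W, a * (orbit X w ∩ F).ncard ≤ b * (orbit X w).ncard) →
      a * (W ∩ F).ncard ≤ b * W.ncard from H _ W rfl hinv horb
  intro N
  induction N using Nat.strong_induction_on with
  | _ N IH =>
    intro W hN hinv horb
    rcases W.eq_empty_or_nonempty with rfl | ⟨w, hw⟩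
    · simp
    · have hsub : orbit X w ⊆ W := by
        rintro v ⟨g, rfl⟩
        exact hinv g g.2 w hw
      set W' := W \ orbit X w with hW'
      have hcard : W.ncard = (orbit X w).ncard + W'.ncard := by
        rw [hW', ← Set.ncard_union_eq Set.disjoint_sdiff_right (Set.toFinite _) (Set.toFinite _),
          Set.union_diff_cancel hsub]
      have hcardF : (W ∩ F).ncard = (orbit X w ∩ F).ncard + (W' ∩ F).ncard := by
        rw [← Set.ncard_union_eq ((Set.disjoint_sdiff_right).mono Set.inter_subset_left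
          Set.inter_subset_left) (Set.toFinite _) (Set.toFinite _), ← Set.union_inter_distrib_right,
          Set.union_diff_cancel hsub]
      have hpos : 0 < (orbit X w).ncard :=
        (Set.ncard_pos (Set.toFinite _)).2 ⟨w, mem_orbit_self w⟩
      have hinv' : ∀ g ∈ X, ∀ v ∈ W', g • v ∈ W' := by
        intro g hg v hv
        refine ⟨hinv g hg v hv.1, fun h => hv.2 ?_⟩
        obtain ⟨k, hk⟩ := h
        refine ⟨(⟨g, hg⟩ : X)⁻¹ * k, ?_⟩
        simp only [mul_smul] at hk ⊢
        rw [hk]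
        exact inv_smul_smul g v
      have := IH W'.ncard (by omega) W' rfl hinv' (fun v hv => horb v hv.1)
      rw [hcard, hcardF, mul_add, mul_add]
      exact add_le_add (horb w hw) this

/-- Every subgroup equal to its `pGen` is generated by its own `p`-elements. -/
theorem gen_subtype {X : Subgroup G} (hX : pGen p X = X) :
    pGen p (⊤ : Subgroup ↥X) = ⊤ := by
  apply Subgroup.map_injective (Subgroup.subtype_injective X)
  rw [← MonoidHom.range_eq_map, Subgroup.range_subtype]
  conv_rhs => rw [← hX]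
  unfold pGen
  rw [MonoidHom.map_closure]
  congr 1
  ext g
  constructor
  · rintro ⟨x, ⟨-, k, hk⟩, rfl⟩
    exact ⟨x.2, k, by rw [← hk]; exact Subgroup.orderOf_coe x⟩
  · rintro ⟨hg, k, hk⟩
    exact ⟨⟨g, hg⟩, ⟨trivial, k, by rw [Subgroup.orderOf_mk]; exact hk⟩, rfl⟩

end Cfsg.Agent.SylowFix
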