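import Cfsg.Agent.Lib.Perm.SylowFixed.Nested

/-!
The chain of closures along the orbit of a `p`-element, and the resulting bound
`(2p-1) |Fix P| ≤ (p-1) |Ω|` for transitive groups generated by `p`-elements.
-/

namespace Cfsg.Agent.SylowFix

open MulAction

universe u v

variable {G : Type u} [Group G] [Finite G] {Ω : Type v} [MulAction G Ω] [Finite Ω]
  {p : ℕ} [hp : Fact p.Prime]

/-- The first `i` points of the orbit of `u₀` under `y`. -/
def pts (y : G) (u₀ : Ω) (i : ℕ) : Set Ω := (fun k => y ^ k • u₀) '' Set.Iio i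

/-- The group generated by the `p`-elements fixing the first `i` points. -/
def Xg (p : ℕ) (y : G) (u₀ : Ω) (i : ℕ) : Subgroup G := pGen p (fixingSubgroup G (pts y u₀ i))

omit [Finite G] [Finite Ω] hp in
theorem pts_zero (y : G) (u₀ : Ω) : pts y u₀ 0 = ∅ := by
  simp [pts]

omit [Finite G] [Finite Ω] hp in
theorem pts_succ (y : G) (u₀ : Ω) (i : ℕ) :
    pts y u₀ (i + 1) = insert (y ^ i • u₀) (pts y u₀ i) := by
  ext w
  simp only [pts, Set.mem_image, Set.mem_Iio, Set.mem_insert_iff]
  constructor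
  · rintro ⟨k, hk, rfl⟩
    rcases Nat.lt_or_ge k i with h | h
    · exact Or.inr ⟨k, h, rfl⟩
    · exact Or.inl (by rw [show k = i by omega])
  · rintro (rfl | ⟨k, hk, rfl⟩)
    · exact ⟨i, by omega, rfl⟩
    · exact ⟨k, by omega, rfl⟩

omit [Finite G] [Finite Ω] hp in
theorem image_pts_succ (y : G) (u₀ : Ω) (i : ℕ) :
    (y • ·) '' pts y u₀ (i + 1) = insert (y ^ (i + 1) • u₀) ((y • ·) '' pts y u₀ i) := by
  rw [pts_succ, Set.image_insert_eq]
  congr 1
  rw [smul_smul, ← pow_succ']

omit [Finite G] [Finite Ω] hp in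
theorem image_pts_subset (y : G) (u₀ : Ω) (i : ℕ) :
    (y • ·) '' pts y u₀ i ⊆ pts y u₀ (i + 1) := by
  rintro _ ⟨_, ⟨k, hk, rfl⟩, rfl⟩
  exact ⟨k + 1, Nat.succ_lt_succ hk, by simp [smul_smul, ← pow_succ']⟩

theorem fixing_ne_top (hT : IsPretransitive G Ω) (h2 : 2 ≤ Nat.card Ω) {A : Set Ω} {a : Ω}
    (ha : a ∈ A) : pGen p (fixingSubgroup G A) ≠ ⊤ := by
  intro he
  haveI : Nontrivial Ω := Finite.one_lt_card_iff_nontrivial.1 h2
  obtain ⟨b, hb⟩ := exists_ne a
  obtain ⟨g, hg⟩ := MulAction.exists_smul_eq G a b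
  refine hb (hg ▸ ?_)
  exact (mem_fixingSubgroup_iff G).1 (pGen_le _ (he.symm ▸ Subgroup.mem_top g)) a ha

theorem fixSet_eq_empty (hT : IsPretransitive G Ω) (h2 : 2 ≤ Nat.card Ω) :
    (fixSet (⊤ : Subgroup G) : Set Ω) = ∅ := by
  haveI : Nontrivial Ω := Finite.one_lt_card_iff_nontrivial.1 h2
  refine Set.eq_empty_iff_forall_notMem.2 fun a ha => ?_
  obtain ⟨b, hb⟩ := exists_ne a
  obtain ⟨g, hg⟩ := MulAction.exists_smul_eq G a b
  exact hb (hg ▸ ha g trivial)

/-- The invariant of the chain at level `j + 1`. -/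
structure Good (p : ℕ) (y : G) (u₀ : Ω) (j : ℕ) : Prop where
  full : Full p (fixingSubgroup G (pts y u₀ (j + 1)))
  exch : ∀ z ∈ (fixSet (Xg p y u₀ (j + 1)) : Set Ω) \ fixSet (Xg p y u₀ j),
    y ^ j • u₀ ∈ fixSet (XX p (pts y u₀ j) z : Subgroup G)
  size : (fixSet (Xg p y u₀ (j + 1)) : Set Ω).ncard ≤
    (j + 1) * ((fixSet (Xg p y u₀ (j + 1)) : Set Ω) \ fixSet (Xg p y u₀ j)).ncard

theorem Ctx.good_zero (C : Ctx G Ω p) (h2 : 2 ≤ Nat.card Ω) (hgen : pGen p (⊤ : Subgroup G) = ⊤)
    (y : G) (u₀ : Ω) : Good p y u₀ 0 := by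
  haveI := C.trans
  have h0 : (fixSet (Xg p y u₀ 0) : Set Ω) = ∅ := by
    rw [Xg, pts_zero, fixingSubgroup_empty, hgen, fixSet_eq_empty C.trans h2]
  have h1 : pts y u₀ 1 = {u₀} := by simp [pts_succ, pts_zero]
  refine ⟨?_, ?_, ?_⟩
  · obtain ⟨P⟩ : Nonempty (Sylow p G) := inferInstance
    have hne : (fixSet (P : Subgroup G) : Set Ω).Nonempty := by
      refine Set.nonempty_of_ncard_ne_zero fun h => ?_
      have := C.excess P
      rw [h] at this
      simp at this
    obtain ⟨α, hα⟩ := hne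
    obtain ⟨g, rfl⟩ := MulAction.exists_smul_eq G α u₀
    refine ⟨g • P, ?_⟩
    rw [smul_sylow_eq_cj, h1, le_fixing_iff, Set.singleton_subset_iff]
    exact smul_mem_fixSet_cj.2 hα
  · intro z hz
    obtain ⟨g, rfl⟩ := MulAction.exists_smul_eq G u₀ z
    rw [pow_zero, one_smul]
    have e1 : (Xg p y u₀ 1 : Subgroup G) = XX p (pts y u₀ 0) u₀ := by
      rw [Xg, XX, pts_succ, pow_zero, one_smul]
    have hle : (XX p (pts y u₀ 0) u₀ : Subgroup G) ≤ XX p (pts y u₀ 0) (g • u₀) := by
      refine le_XX (pGen_idem _) ?_ (by simp [pts_zero])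
      rw [← e1]; exact hz.1
    have heq : (XX p (pts y u₀ 0) u₀ : Subgroup G) = XX p (pts y u₀ 0) (g • u₀) := by
      refine Subgroup.eq_of_le_of_card_ge hle (le_of_eq ?_)
      rw [XX_smul (by simp [pts_zero, fixingSubgroup_empty]), card_cj]
    rw [← heq]
    exact mem_fixSet_XX _ _
  · rw [h0, Set.sdiff_empty]
    omega

theorem Ctx.full_succ (C : Ctx G Ω p) (h2 : 2 ≤ Nat.card Ω) {y : G} {k : ℕ}
    (hy : orderOf y = p ^ k) {u₀ : Ω} (hyu : y • u₀ ≠ u₀) {j : ℕ} (hj : j + 1 ≤ p - 1)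
    (H : Good p y u₀ j) :
    Full p (fixingSubgroup G (pts y u₀ (j + 2))) ∧
      (j + 2 ≤ p - 1 → Good p y u₀ (j + 1)) := by
  haveI := C.trans
  set T := pts y u₀ (j + 1) with hT
  set A : Set Ω := (y • ·) '' pts y u₀ j with hA
  set u := y ^ (j + 1) • u₀ with hu
  set X := Xg p y u₀ (j + 1) with hXdef
  have hu0T : u₀ ∈ T := ⟨0, Nat.succ_pos _, by simp⟩
  have hXne : X ≠ ⊤ := fixing_ne_top C.trans h2 hu0T
  have hTX : T ⊆ fixSet X := subset_fixSet_pGen_fixing _
  have hAT : A ⊆ T := image_pts_subset y u₀ j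
  have hTi : pts y u₀ (j + 2) = insert u T := pts_succ y u₀ (j + 1)
  have hyT : (y • ·) '' T = insert u A := image_pts_succ y u₀ j
  have hX'' : cj y X = pGen p (fixingSubgroup G (insert u A)) := by
    rw [← hyT, fixing_image, pGen_cj]; rfl
  have huX : u ∉ fixSet X := by
    intro hfix
    have hle : X ≤ cj y X := by
      rw [hX'']
      exact pGen_le_pGen_fixing (Set.insert_subset hfix (hAT.trans hTX))
    have heq : cj y X = X := (Subgroup.eq_of_le_of_card_ge hle (card_cj y X).le).symm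
    have hymem : y ∈ X := mem_of_normalizes H.full.pGen hy heq
    exact hyu (hTX hu0T y hymem)
  set Wn : Set Ω := (y • ·) '' ((fixSet X : Set Ω) \ fixSet (Xg p y u₀ j)) with hWn
  set a := Wn.ncard with ha
  have hsize : (fixSet X : Set Ω).ncard ≤ (p - 1) * a := by
    refine H.size.trans ?_
    rw [ha, hWn, Set.ncard_image_of_injective _ (MulAction.injective y)]
    exact Nat.mul_le_mul_right _ hj
  have hWu : ∀ w ∈ Wn, u ∈ fixSet (XX p A w : Subgroup G) := by
    rintro _ ⟨z, hz, rfl⟩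
    have e : XX p A (y • z) = cj y (XX p (pts y u₀ j) z) := by
      rw [XX, XX, ← pGen_cj, ← fixing_image, Set.image_insert_eq]
    rw [e, hu, pow_succ', mul_smul, smul_mem_fixSet_cj]
    exact H.exch z hz
  have hWX'' : ∀ w ∈ Wn, w ∈ fixSet (cj y X) := by
    rintro _ ⟨z, hz, rfl⟩
    exact smul_mem_fixSet_cj.2 hz.1
  have hXXA : ∀ w ∈ Wn, XX p A w = cj y X := by
    intro w hw
    refine le_antisymm ?_ ?_
    · rw [hX'']
      refine pGen_le_pGen_fixing (Set.insert_subset (hWu w hw) ?_)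
      exact (Set.subset_insert _ _).trans (subset_fixSet_pGen_fixing (insert w A))
    · refine le_XX ?_ (hWX'' w hw) ?_
      · rw [hX'', pGen_idem]
      · rw [hX'']
        exact (Set.subset_insert _ _).trans (subset_fixSet_pGen_fixing _)
  have hXgen : pGen p X = X := pGen_idem _
  have hWdX : ∀ w ∈ Wn, w ∉ fixSet X := by
    intro w hw hfix
    exact huX (fixSet_anti (le_XX hXgen hfix (hAT.trans hTX)) (hWu w hw))
  obtain ⟨z₀, hz₀⟩ : Wn.Nonempty := by
    refine Set.nonempty_of_ncard_ne_zero fun h => ?_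
    have h1 : 1 ≤ (fixSet X : Set Ω).ncard :=
      (Set.ncard_pos (Set.toFinite _)).2 ⟨u₀, hTX hu0T⟩
    rw [ha, h] at hsize
    omega
  have hfull : Full p (fixingSubgroup G (pts y u₀ (j + 2))) := by
    by_contra hnf
    obtain ⟨R, hR⟩ := H.full.pGen
    change (R : Subgroup G) ≤ X at hR
    set W : Set Ω := {v | ∃ g ∈ X, ∃ w ∈ Wn, v = g • w} with hW
    have hWinv : ∀ g ∈ X, ∀ v ∈ W, g • v ∈ W := by
      rintro g hg _ ⟨h, hh, w, hw, rfl⟩
      exact ⟨g * h, X.mul_mem hg hh, w, hw, (mul_smul g h w).symm⟩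
    have hWdisj : ∀ v ∈ W, v ∉ (fixSet X : Set Ω) := by
      rintro _ ⟨h, hh, w, hw, rfl⟩ hfix
      refine hWdX w hw fun g hg => ?_
      have := hfix (h * g * h⁻¹) (X.mul_mem (X.mul_mem hh hg) (X.inv_mem hh))
      rwa [smul_smul, inv_mul_cancel_right, mul_smul, smul_left_cancel_iff] at this
    have hWF : W ∩ fixSet (R : Subgroup G) = ∅ := by
      refine Set.eq_empty_iff_forall_notMem.2 ?_
      rintro _ ⟨⟨h, hh, w, hw, rfl⟩, hfix⟩
      have hR' : ((h⁻¹ • R : Sylow p G) : Subgroup G) ≤ X := by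
        rw [smul_sylow_eq_cj]
        intro x hx
        have := hR (mem_cj.1 hx)
        simpa [mul_assoc] using X.mul_mem (X.mul_mem (X.inv_mem hh) this) hh
      have hw' : w ∈ fixSet ((h⁻¹ • R : Sylow p G) : Subgroup G) := by
        rw [smul_sylow_eq_cj]
        have := smul_mem_fixSet_cj (g := h⁻¹).2 hfix
        rwa [inv_smul_smul] at this
      have hT' : T ⊆ fixSet ((h⁻¹ • R : Sylow p G) : Subgroup G) :=
        hTX.trans (fixSet_anti hR')
      have hle : ((h⁻¹ • R : Sylow p G) : Subgroup G) ≤ XX p A w :=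
        isPGroup_le_pGen (h⁻¹ • R).isPGroup'
          (le_fixing_iff.2 (Set.insert_subset hw' (hAT.trans hT')))
      refine hnf ⟨h⁻¹ • R, ?_⟩
      rw [hTi, le_fixing_iff]
      exact Set.insert_subset (fixSet_anti hle (hWu w hw)) hT'
    have hWcard : p * a ≤ W.ncard := by
      classical
      haveI := Fintype.ofFinite Ω
      set orb : Ω → Finset Ω := fun w => (orbit (R : Subgroup G) w).toFinite.toFinset with horb
      have hd : ∀ w ∈ Wn.toFinite.toFinset, ∀ w' ∈ Wn.toFinite.toFinset, w ≠ w' →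
          Disjoint (orb w) (orb w') := by
        intro w hw w' hw' hne
        rw [Set.Finite.mem_toFinset] at hw hw'
        rw [horb, Finset.disjoint_left]
        intro v hv hv'
        rw [Set.Finite.mem_toFinset] at hv hv'
        obtain ⟨⟨g, hg⟩, hge⟩ := hv
        obtain ⟨⟨g', hg'⟩, hge'⟩ := hv'
        set x := g'⁻¹ * g with hx
        have hxR : x ∈ (R : Subgroup G) := (R : Subgroup G).mul_mem ((R : Subgroup G).inv_mem hg') hg
        have hxw : x • w = w' := by
          simp only [Subgroup.smul_def] at hge hge'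
          rw [hx, mul_smul, hge, ← hge', inv_smul_smul]
        have hxA : x ∈ fixingSubgroup G A :=
          fixingSubgroup_antitone G Ω hAT (pGen_le _ (hR hxR))
        obtain ⟨e, he⟩ := IsPGroup.iff_orderOf.1 R.isPGroup' ⟨x, hxR⟩
        rw [Subgroup.orderOf_mk] at he
        have hfl : Full p (cj y X) := H.full.pGen.cj y
        have hn : cj x (cj y X) = cj y X := by
          conv_lhs => rw [← hXXA w hw]
          rw [← XX_smul hxA, hxw, hXXA w' hw']
        exact hne (by rw [← hxw, hWX'' w hw x (mem_of_normalizes hfl he hn)])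
      have hsub : Wn.toFinite.toFinset.biUnion orb ⊆ W.toFinite.toFinset := by
        intro v hv
        simp only [horb, Finset.mem_biUnion, Set.Finite.mem_toFinset] at hv ⊢
        obtain ⟨w, hw, ⟨g, hg⟩, rfl⟩ := hv
        exact ⟨g, hR hg, w, hw, rfl⟩
      have hp1 : ∀ w ∈ Wn.toFinite.toFinset, p ≤ (orb w).card := by
        intro w hw
        rw [Set.Finite.mem_toFinset] at hw
        rw [horb, ← Set.ncard_eq_toFinset_card]
        obtain ⟨n, hn⟩ := R.isPGroup'.card_orbit w
        rw [Nat.card_coe_set_eq] at hn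
        rw [hn]
        rcases Nat.eq_zero_or_pos n with h0 | h0
        · exfalso
          rw [h0, pow_zero, Set.ncard_eq_one] at hn
          obtain ⟨c, hc⟩ := hn
          have hwW : w ∈ W := ⟨1, X.one_mem, w, hw, (one_smul G w).symm⟩
          refine (Set.eq_empty_iff_forall_notMem.1 hWF) w ⟨hwW, fun g hg => ?_⟩
          have h1 : g • w ∈ orbit (R : Subgroup G) w := ⟨⟨g, hg⟩, rfl⟩
          have h2 : w ∈ orbit (R : Subgroup G) w := mem_orbit_self w
          rw [hc, Set.mem_singleton_iff] at h1 h2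
          rw [h1, ← h2]
        · exact Nat.le_self_pow h0.ne' p
      calc p * a = ∑ _w ∈ Wn.toFinite.toFinset, p := by
            rw [Finset.sum_const, smul_eq_mul, ha, Set.ncard_eq_toFinset_card Wn (Set.toFinite _),
              mul_comm]
        _ ≤ ∑ w ∈ Wn.toFinite.toFinset, (orb w).card := Finset.sum_le_sum hp1
        _ = (Wn.toFinite.toFinset.biUnion orb).card :=
            (Finset.card_biUnion fun w hw w' hw' h => hd w hw w' hw' h).symm
        _ ≤ W.toFinite.toFinset.card := Finset.card_le_card hsub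
        _ = W.ncard := (Set.ncard_eq_toFinset_card _ _).symm
    have hkey := C.key hXne hXgen hR hWinv hWdisj
    rw [hWF, Set.ncard_empty, Nat.mul_zero, Nat.zero_add] at hkey
    nlinarith
  refine ⟨hfull, fun hj2 => ?_⟩
  set X' := Xg p y u₀ (j + 2) with hX'def
  have hX'X : X' ≤ X := by
    refine pGen_mono (fixingSubgroup_antitone G Ω ?_)
    show T ≤ pts y u₀ (j + 2)
    rw [hTi]; exact Set.subset_insert _ _
  have hX'fix : insert u T ⊆ fixSet X' := hTi ▸ subset_fixSet_pGen_fixing _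
  have hX'X'' : X' ≤ cj y X := by
    rw [hX'']
    refine pGen_le_pGen_fixing (Set.insert_subset (hX'fix (Set.mem_insert _ _)) ?_)
    exact hAT.trans ((Set.subset_insert _ _).trans hX'fix)
  have hWnX' : Wn ⊆ fixSet X' := fun w hw => fixSet_anti hX'X'' (hWX'' w hw)
  have hXXT : ∀ w ∈ Wn, XX p T w = X' := by
    intro w hw
    refine le_antisymm ?_ (le_XX (pGen_idem _) (hWnX' hw) ((Set.subset_insert _ _).trans hX'fix))
    rw [hX'def, Xg, hTi]
    refine pGen_le_pGen_fixing (Set.insert_subset ?_ ((Set.subset_insert _ _).trans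
      (subset_fixSet_pGen_fixing (insert w T))))
    refine fixSet_anti ?_ (hWu w hw)
    exact pGen_mono (fixingSubgroup_antitone G Ω (Set.insert_subset_insert hAT))
  refine ⟨hfull, ?_, ?_⟩
  · rintro z ⟨hz, hzX⟩
    by_contra hzu
    have hX'Y : X' ≤ XX p T z :=
      le_XX (pGen_idem _) hz ((Set.subset_insert _ _).trans hX'fix)
    refine C.nested_false (T := T) hXne ⟨z₀, hz₀⟩ hfull.pGen hXXT hWdX hzX hX'Y ?_ ?_ hsize
    · intro he
      exact hzu (he ▸ hX'fix (Set.mem_insert _ _))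
    · intro w hw hfix
      have hle : XX p T z ≤ XX p T w :=
        le_XX (pGen_idem _) hfix
          ((Set.subset_insert _ _).trans (subset_fixSet_pGen_fixing (insert z T)))
      rw [hXXT w hw] at hle
      exact hzu (fixSet_anti hle (hX'fix (Set.mem_insert _ _)))
  · have h1 : a ≤ ((fixSet X' : Set Ω) \ fixSet X).ncard :=
      Set.ncard_le_ncard (fun w hw => show w ∈ _ \ _ from ⟨hWnX' hw, hWdX w hw⟩) (Set.toFinite _)
    have h2 : (fixSet X' : Set Ω).ncard =
        (fixSet X : Set Ω).ncard + ((fixSet X' : Set Ω) \ fixSet X).ncard := by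
      rw [← Set.ncard_union_eq Set.disjoint_sdiff_right (Set.toFinite _) (Set.toFinite _),
        Set.union_diff_cancel (fixSet_anti hX'X)]
    have h3 : (fixSet X : Set Ω).ncard ≤ (j + 1) * a := by
      refine H.size.trans (le_of_eq ?_)
      rw [ha, hWn, Set.ncard_image_of_injective _ (MulAction.injective y)]
    rw [h2]
    nlinarith

/-- No counterexample exists. -/
theorem Ctx.false (C : Ctx G Ω p) (h2 : 2 ≤ Nat.card Ω) (hgen : pGen p (⊤ : Subgroup G) = ⊤) :
    False := by
  haveI := C.trans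
  obtain ⟨g₀, k₀, hk₀, u₀, hmove⟩ : ∃ g : G, ∃ k : ℕ, orderOf g = p ^ k ∧ ∃ u : Ω, g • u ≠ u := by
    by_contra hcon
    push_neg at hcon
    haveI : Nontrivial Ω := Finite.one_lt_card_iff_nontrivial.1 h2
    obtain ⟨a, b, hab⟩ := exists_pair_ne Ω
    obtain ⟨g, rfl⟩ := MulAction.exists_smul_eq G a b
    have hg : g ∈ pGen p (⊤ : Subgroup G) := by rw [hgen]; exact Subgroup.mem_top g
    have hle : pGen p (⊤ : Subgroup G) ≤ MulAction.stabilizer G a := by
      refine (Subgroup.closure_le _).2 ?_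
      rintro x ⟨-, k, hk⟩
      exact hcon x k hk a
    exact hab (hle hg).symm
  classical
  have hex : ∃ i, g₀ ^ p ^ i • u₀ = u₀ :=
    ⟨k₀, by rw [← hk₀, pow_orderOf_eq_one, one_smul]⟩
  set d := Nat.find hex with hd
  obtain ⟨d', hd'⟩ : ∃ d', d = d' + 1 := by
    refine ⟨d - 1, (Nat.succ_pred_eq_of_pos (Nat.pos_of_ne_zero fun h => hmove ?_)).symm⟩
    have := Nat.find_spec hex
    rw [← hd, h, pow_zero, pow_one] at this
    exact this
  set y := g₀ ^ p ^ d' with hy
  have hyu : y • u₀ ≠ u₀ := Nat.find_min hex (by omega : d' < Nat.find hex)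
  have hyp : y ^ p • u₀ = u₀ := by
    have := Nat.find_spec hex
    rw [← hd, hd', pow_succ, pow_mul] at this
    exact this
  obtain ⟨k, hk⟩ : ∃ k, orderOf y = p ^ k := by
    obtain ⟨k, -, hk⟩ := (Nat.dvd_prime_pow hp.out).1 (hk₀ ▸ orderOf_pow_dvd (p ^ d') (x := g₀))
    exact ⟨k, hk⟩
  have hgood : ∀ j, j + 1 ≤ p - 1 → Good p y u₀ j := by
    intro j
    induction j with
    | zero => exact fun _ => C.good_zero h2 hgen y u₀
    | succ j ih =>
      intro hj
      exact (C.full_succ h2 hk hyu (by omega) (ih (by omega))).2 hj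
  have hp2 := hp.out.two_le
  have hfull := (C.full_succ h2 hk hyu (j := p - 2) (by omega) (hgood (p - 2) (by omega))).1
  rw [show p - 2 + 2 = p by omega] at hfull
  have hn : cj y (fixingSubgroup G (pts y u₀ p)) = fixingSubgroup G (pts y u₀ p) := by
    rw [← fixing_image]
    congr 1
    ext w
    constructor
    · rintro ⟨_, ⟨i, hi, rfl⟩, rfl⟩
      rcases Nat.lt_or_ge (i + 1) p with h | h
      · exact ⟨i + 1, h, by simp [smul_smul, ← pow_succ']⟩
      · refine ⟨0, by simp; omega, ?_⟩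
        have hi' : i < p := hi
        simp only [pow_zero, one_smul, smul_smul, ← pow_succ']
        rw [show i + 1 = p by omega, hyp]
    · rintro ⟨i, hi, rfl⟩
      rcases Nat.eq_zero_or_pos i with rfl | h
      · refine ⟨y ^ (p - 1) • u₀, ⟨p - 1, by simp; omega, rfl⟩, ?_⟩
        simp only [smul_smul, ← pow_succ']
        rw [show p - 1 + 1 = p by omega, hyp, pow_zero, one_smul]
      · have hi' : i < p := hi
        refine ⟨y ^ (i - 1) • u₀, ⟨i - 1, by simp; omega, rfl⟩, ?_⟩
        simp only [smul_smul, ← pow_succ']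
        rw [show i - 1 + 1 = i by omega]
  have hmem := mem_of_normalizes hfull hk hn
  exact hyu ((mem_fixingSubgroup_iff G).1 hmem u₀ ⟨0, by simp; omega, by simp⟩)

/-- Praeger's bound for the fixed points of a Sylow subgroup. -/
theorem bound : ∀ (G : Type u) [Group G] [Finite G] (Ω : Type v) [MulAction G Ω] [Finite Ω],
    IsPretransitive G Ω → 2 ≤ Nat.card Ω → pGen p (⊤ : Subgroup G) = ⊤ → ∀ P : Sylow p G,
      (2 * p - 1) * (fixSet (P : Subgroup G) : Set Ω).ncard ≤ (p - 1) * Nat.card Ω := by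
  intro G _ _
  induction hN : Nat.card G using Nat.strong_induction_on generalizing G with
  | _ N IH =>
    intro Ω _ _ hT h2 hgen P
    subst hN
    by_contra hlt
    refine Ctx.false (p := p) (G := G) (Ω := Ω) ⟨hT, ?_, ?_⟩ h2 hgen
    · intro X hX hXgen R hR w hw
      have hcard : Nat.card ↥X < Nat.card G :=
        lt_of_le_of_ne (Nat.card_le_card_of_injective _ X.subtype_injective)
          fun h => hX (Subgroup.eq_top_of_card_eq X h)
      have ho2 : 2 ≤ Nat.card (orbit X w) := by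
        rw [mem_fixSet] at hw
        push_neg at hw
        obtain ⟨g, hg, hne⟩ := hw
        rw [Nat.card_coe_set_eq]
        exact (Set.one_lt_ncard (Set.toFinite _)).2
          ⟨g • w, ⟨⟨g, hg⟩, rfl⟩, w, mem_orbit_self w, hne⟩
      have := IH (Nat.card ↥X) hcard ↥X rfl (orbit X w) inferInstance ho2 (gen_subtype hXgen)
        (R.subtype hR)
      rw [Nat.card_coe_set_eq] at this
      have e : orbit X w ∩ fixSet (R : Subgroup G) =
          Subtype.val '' (fixSet ((R.subtype hR : Sylow p ↥X) : Subgroup ↥X) :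
            Set (orbit X w)) := by
        ext v
        constructor
        · rintro ⟨hv, hfix⟩
          refine ⟨⟨v, hv⟩, fun g hg => Subtype.ext ?_, rfl⟩
          rw [Sylow.coe_subtype, Subgroup.mem_subgroupOf] at hg
          exact hfix _ hg
        · rintro ⟨⟨v, hv⟩, hfix, rfl⟩
          refine ⟨hv, fun g hg => ?_⟩
          have := hfix ⟨g, hR hg⟩ (by rw [Sylow.coe_subtype, Subgroup.mem_subgroupOf]; exact hg)
          exact congrArg Subtype.val this
      rw [e, Set.ncard_image_of_injective _ Subtype.val_injective]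
      exact this
    · intro R
      obtain ⟨g, rfl⟩ := MulAction.exists_smul_eq G P R
      rw [smul_sylow_eq_cj, fixSet_cj, Set.ncard_image_of_injective _ (MulAction.injective g)]
      exact Nat.lt_of_not_le hlt

end Cfsg.Agent.SylowFix
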