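import Cfsg.Agent.Lib.Perm.SylowFixed.Basic

/-!
The counterexample context for the Sylow fixed point bound, the slack inequality, and the
exclusion of nested closures.
-/

namespace Cfsg.Agent.SylowFix

open MulAction

universe u v

variable {G : Type u} [Group G] [Finite G] {Ω : Type v} [MulAction G Ω] [Finite Ω]
  {p : ℕ} [hp : Fact p.Prime]

/-- A counterexample to the bound all of whose proper subgroups satisfy it. -/
structure Ctx (G : Type u) [Group G] (Ω : Type v) [MulAction G Ω] (p : ℕ) : Prop where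
  trans : IsPretransitive G Ω
  ih : ∀ X : Subgroup G, X ≠ ⊤ → pGen p X = X → ∀ R : Sylow p G, (R : Subgroup G) ≤ X →
    ∀ w : Ω, w ∉ (fixSet X : Set Ω) →
      (2 * p - 1) * (orbit X w ∩ fixSet (R : Subgroup G)).ncard ≤ (p - 1) * (orbit X w).ncard
  excess : ∀ R : Sylow p G,
    (p - 1) * Nat.card Ω < (2 * p - 1) * (fixSet (R : Subgroup G) : Set Ω).ncard

/-- The subgroup generated by the `p`-elements fixing `T` and `w`. -/
def XX (p : ℕ) (T : Set Ω) (w : Ω) : Subgroup G := pGen p (fixingSubgroup G (insert w T))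

theorem XX_smul {T : Set Ω} {g : G} (hg : g ∈ fixingSubgroup G T) (w : Ω) :
    (XX p T (g • w) : Subgroup G) = cj g (XX p T w) := by
  have : insert (g • w) T = (g • ·) '' insert w T := by
    rw [Set.image_insert_eq]
    congr 1
    ext t
    constructor
    · exact fun ht => ⟨t, ht, (mem_fixingSubgroup_iff G).1 hg t ht⟩
    · rintro ⟨s, hs, rfl⟩
      simp only [(mem_fixingSubgroup_iff G).1 hg s hs]
      exact hs
  rw [XX, this, fixing_image, pGen_cj]; rfl

theorem XX_le (T : Set Ω) (w : Ω) :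
    (XX p T w : Subgroup G) ≤ pGen p (fixingSubgroup G T) :=
  pGen_mono (fixingSubgroup_antitone G Ω (Set.subset_insert w T))

theorem mem_fixSet_XX (T : Set Ω) (w : Ω) : w ∈ fixSet (XX p T w : Subgroup G) :=
  subset_fixSet_pGen_fixing _ (Set.mem_insert w T)

omit hp in
theorem le_XX {T : Set Ω} {w : Ω} {Z : Subgroup G} (hZ : pGen p Z = Z)
    (hw : w ∈ fixSet Z) (hT : T ⊆ fixSet Z) : Z ≤ XX p T w := by
  rw [← hZ] at hw hT ⊢
  exact pGen_le_pGen_fixing (Set.insert_subset hw hT)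

theorem orbit_disjoint_fixSet {X : Subgroup G} {W : Set Ω}
    (hinv : ∀ g ∈ X, ∀ w ∈ W, g • w ∈ W) : ∀ g ∈ X, ∀ v : Ω, v ∉ W → g • v ∉ W := by
  intro g hg v hv h
  exact hv (by simpa using hinv g⁻¹ (X.inv_mem hg) _ h)

/-- The slack inequality for a proper subgroup containing a Sylow subgroup. -/
theorem Ctx.key (C : Ctx G Ω p) {X : Subgroup G} (hX : X ≠ ⊤) (hgen : pGen p X = X)
    {R : Sylow p G} (hR : (R : Subgroup G) ≤ X) {W : Set Ω}
    (hinv : ∀ g ∈ X, ∀ w ∈ W, g • w ∈ W) (hdisj : ∀ w ∈ W, w ∉ (fixSet X : Set Ω)) :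
    (p - 1) * W.ncard <
      (2 * p - 1) * (W ∩ fixSet (R : Subgroup G)).ncard + p * (fixSet X : Set Ω).ncard := by
  set F : Set Ω := fixSet (R : Subgroup G) with hF
  set S : Set Ω := fixSet X with hS
  set V : Set Ω := (S ∪ W)ᶜ with hV
  have hSF : S ⊆ F := fixSet_anti hR
  have hVinv : ∀ g ∈ X, ∀ v ∈ V, g • v ∈ V := by
    intro g hg v hv h
    rcases h with h | h
    · refine hv (Or.inl ?_)
      have := h g⁻¹ (X.inv_mem hg)
      rw [inv_smul_smul] at this
      rw [this]; exact h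
    · exact orbit_disjoint_fixSet hinv g hg v (fun hw => hv (Or.inr hw)) h
  have hVb : (2 * p - 1) * (V ∩ F).ncard ≤ (p - 1) * V.ncard :=
    invariant_bound X F V _ _ hVinv fun v hv =>
      C.ih X hX hgen R hR v fun h => hv (Or.inl h)
  have hd : Disjoint S W := Set.disjoint_left.2 fun w hs hw => hdisj w hw hs
  have hn : Nat.card Ω = S.ncard + W.ncard + V.ncard := by
    rw [← Set.ncard_union_eq hd (Set.toFinite _) (Set.toFinite _), hV,
      Set.ncard_add_ncard_compl]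
  have hf : F.ncard = S.ncard + (W ∩ F).ncard + (V ∩ F).ncard := by
    have hd1 : Disjoint S (W ∩ F) := hd.mono_right Set.inter_subset_left
    rw [← Set.ncard_union_eq hd1 (Set.toFinite _) (Set.toFinite _),
      ← Set.ncard_union_eq ?_ (Set.toFinite _) (Set.toFinite _)]
    · congr 1
      ext x
      simp only [hV, Set.mem_union, Set.mem_inter_iff, Set.mem_compl_iff]
      constructor
      · intro hx
        tauto
      · rintro ((h | h) | h)
        · exact hSF h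
        · exact h.2
        · exact h.2
    · refine Set.disjoint_left.2 fun x hx hx' => hx'.1 ?_
      rcases hx with h | h
      · exact Or.inl h
      · exact Or.inr h.1
  have h := C.excess R
  rw [← hF] at h
  rw [hn, hf] at h
  have e : 2 * p - 1 = (p - 1) + p := by have := hp.out.two_le; omega
  rw [e] at h hVb ⊢
  nlinarith

/-- Every `p`-element of `X` lies in an `X`-conjugate of a given Sylow subgroup in `X`. -/
theorem exists_mem_cj_sylow {X : Subgroup G} {R : Sylow p G} (hR : (R : Subgroup G) ≤ X)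
    {a : G} (ha : a ∈ X) {k : ℕ} (hk : orderOf a = p ^ k) :
    ∃ g ∈ X, a ∈ cj g (R : Subgroup G) := by
  have hP : IsPGroup p (Subgroup.zpowers (⟨a, ha⟩ : ↥X)) :=
    IsPGroup.of_card (n := k) (by rw [Nat.card_zpowers, Subgroup.orderOf_mk, hk])
  obtain ⟨Q, hQ⟩ := hP.exists_le_sylow
  obtain ⟨g, hg⟩ := MulAction.exists_smul_eq ↥X (R.subtype hR) Q
  have := hQ (Subgroup.mem_zpowers (⟨a, ha⟩ : ↥X))
  rw [← hg, smul_sylow_eq_cj, mem_cj, Sylow.coe_subtype, Subgroup.mem_subgroupOf] at this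
  exact ⟨g, g.2, mem_cj.2 (by simpa using this)⟩

omit [Finite G] hp in
theorem pow_inj_normalizer {K : Subgroup G} {h : G} {k : ℕ} (hk : orderOf h = p ^ k)
    (hp' : p.Prime) (hne : cj h K ≠ K) {i j : ℕ} (hij : i < j) (hj : j < p) :
    cj (h ^ i) K ≠ cj (h ^ j) K := by
  intro he
  have h1 : cj (h ^ (j - i)) K = K := by
    have := congrArg (cj ((h ^ i)⁻¹)) he
    rw [cj_cj, cj_cj, inv_mul_cancel, cj_one] at this
    rw [pow_sub h hij.le]
    rw [this]
    conv_rhs => rw [this]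
    congr 1
    exact ((Commute.refl h).pow_pow j i).inv_right.eq
  have hmem : h ^ (j - i) ∈ Subgroup.normalizer (K : Set G) := mem_normalizer_iff_cj.2 h1
  have hcop : (j - i).Coprime (orderOf h) := by
    rw [hk]
    refine Nat.Coprime.pow_right k (Nat.Coprime.symm (hp'.coprime_iff_not_dvd.2 ?_))
    intro hd
    have := Nat.le_of_dvd (by omega) hd
    omega
  obtain ⟨m, hm⟩ := exists_pow_eq_self_of_coprime hcop
  refine hne (mem_normalizer_iff_cj.1 ?_)
  rw [← hm]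
  exact pow_mem hmem m

theorem ncard_cj_orbit_ge {Y K : Subgroup G} {h : G} {k : ℕ} (hY : h ∈ Y)
    (hk : orderOf h = p ^ k) (hne : cj h K ≠ K) :
    p ≤ {L | ∃ g ∈ Y, L = cj g K}.ncard := by
  refine Set.le_ncard_of_inj_on_range (fun i => cj (h ^ i) K) ?_ ?_ (Set.toFinite _)
  · exact fun i _ => ⟨h ^ i, pow_mem hY i, rfl⟩
  · intro i hi j hj he
    rcases lt_trichotomy i j with hlt | heq | hgt
    · exact absurd he (pow_inj_normalizer hk hp.out hne hlt hj)
    · exact heq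
    · exact absurd he.symm (pow_inj_normalizer hk hp.out hne hgt hi)

omit [Finite G] hp in
theorem ncard_cj_orbit (Y K : Subgroup G) :
    {L | ∃ g ∈ Y, L = cj g K}.ncard =
      ((Subgroup.normalizer (K : Set G)).subgroupOf Y).index := by
  rw [← Nat.card_coe_set_eq, Subgroup.index]
  symm
  let f : ↥Y ⧸ (Subgroup.normalizer (K : Set G)).subgroupOf Y →
      {L | ∃ g ∈ Y, L = cj g K} :=
    Quotient.lift (fun g : ↥Y => (⟨cj (g : G) K, g, g.2, rfl⟩ : {L | ∃ g ∈ Y, L = cj g K}))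
      (fun a b hab => by
        have := QuotientGroup.leftRel_apply.1 hab
        rw [Subgroup.mem_subgroupOf, mem_normalizer_iff_cj] at this
        refine Subtype.ext ?_
        have h2 := congrArg (cj (a : G)) this
        rw [cj_cj] at h2
        simpa using h2.symm)
  refine Nat.card_congr (Equiv.ofBijective f ⟨?_, ?_⟩)
  · intro a b
    refine Quotient.inductionOn₂ a b fun a b hab => QuotientGroup.eq.2 ?_
    have h2 : cj (a : G) K = cj (b : G) K := congrArg Subtype.val hab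
    rw [Subgroup.mem_subgroupOf, mem_normalizer_iff_cj, Subgroup.coe_mul, ← cj_cj, ← h2, cj_cj]
    simp [cj_one]
  · rintro ⟨L, g, hg, rfl⟩
    exact ⟨QuotientGroup.mk ⟨g, hg⟩, rfl⟩

/-- The number of conjugates, in `X`, of a nested closure. -/
theorem conjugates_ge {X X' Y : Subgroup G} (hXgen : pGen p X = X) (hX'gen : pGen p X' = X')
    (hYgen : pGen p Y = Y) (hX'full : Full p X') (hX'Y : X' ≤ Y) (hYX : Y ≤ X)
    (hne : Y ≠ X') {z : Ω} (hz : z ∈ fixSet Y) (hzX : z ∉ (fixSet X : Set Ω)) :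
    2 * p ≤ {L | ∃ g ∈ X, L = cj g X'}.ncard := by
  obtain ⟨R, hR⟩ := hX'full
  have hmove : ∀ K : Subgroup G, Full p K → pGen p K = K → Nat.card K = Nat.card X' →
      ∃ h ∈ Y, ∃ k, orderOf h = p ^ k ∧ cj h K ≠ K := by
    intro K hKf hKg hKc
    by_contra hcon
    push_neg at hcon
    have hYK : Y ≤ K := by
      rw [← hYgen]
      refine (Subgroup.closure_le _).2 ?_
      rintro h ⟨hh, k, hk⟩
      exact mem_of_normalizes hKf hk (hcon h hh k hk)
    have h1 : Nat.card Y ≤ Nat.card X' := hKc ▸ Subgroup.card_le_of_le hYK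
    exact hne (Subgroup.eq_of_le_of_card_ge hX'Y h1).symm
  set A := {L | ∃ g ∈ Y, L = cj g X'} with hA
  have hA1 : p ≤ A.ncard := by
    obtain ⟨h, hh, k, hk, hne'⟩ := hmove X' ⟨R, hR⟩ hX'gen rfl
    exact ncard_cj_orbit_ge hh hk hne'
  have hA2 : A.ncard ≠ p := by
    rw [hA, ncard_cj_orbit]
    intro he
    have hdvd : ((Subgroup.normalizer (X' : Set G)).subgroupOf Y).index ∣
        ((R.subtype (hR.trans hX'Y) : Sylow p ↥Y) : Subgroup ↥Y).index := by
      refine Subgroup.index_dvd_of_le ?_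
      rw [Sylow.coe_subtype]
      intro g hg
      exact Subgroup.le_normalizer (hR hg)
    exact (R.subtype (hR.trans hX'Y)).not_dvd_index (he ▸ hdvd)
  have hrest : ∃ g ∈ X, cj g X' ∉ A := by
    by_contra hcon
    push_neg at hcon
    refine hzX fun a ha => ?_
    have horb : ∀ g ∈ X, g • z ∈ fixSet X' := by
      intro g hg
      obtain ⟨h, hh, he⟩ := hcon g⁻¹ (X.inv_mem hg)
      have hn : cj (g * h) X' = X' := by
        have := congrArg (cj g) he
        rw [cj_cj, cj_cj, mul_inv_cancel, cj_one] at this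
        exact this.symm
      have : (g * h) • z ∈ fixSet (cj (g * h) X') :=
        smul_mem_fixSet_cj.2 (fixSet_anti hX'Y hz)
      rw [hn, mul_smul, hz h hh] at this
      exact this
    rw [← hXgen] at ha
    refine Subgroup.closure_induction ?_ (one_smul G z) ?_ ?_ ha
    · rintro a ⟨ha', k, hk⟩
      obtain ⟨g, hg, hga⟩ := exists_mem_cj_sylow (hR.trans (hX'Y.trans hYX)) ha' hk
      have h1 := horb g⁻¹ (X.inv_mem hg) _ (hR (mem_cj.1 hga))
      rwa [mul_assoc, mul_smul, inv_smul_eq_iff, smul_inv_smul, mul_smul,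
        smul_inv_smul] at h1
    · intro x y _ _ hx hy
      rw [mul_smul, hy, hx]
    · intro x _ hx
      rw [inv_smul_eq_iff, hx]
  obtain ⟨g₀, hg₀, hg₀A⟩ := hrest
  set B := {L | ∃ g ∈ Y, L = cj g (cj g₀ X')} with hB
  have hB1 : p ≤ B.ncard := by
    obtain ⟨h, hh, k, hk, hne'⟩ := hmove (cj g₀ X') (Full.cj ⟨R, hR⟩ g₀)
      (by rw [pGen_cj, hX'gen]) (card_cj _ _)
    exact ncard_cj_orbit_ge hh hk hne'
  have hd : Disjoint A B := by
    refine Set.disjoint_left.2 ?_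
    rintro L ⟨a, ha, rfl⟩ ⟨b, hb, he⟩
    refine hg₀A ⟨b⁻¹ * a, Y.mul_mem (Y.inv_mem hb) ha, ?_⟩
    have := congrArg (cj b⁻¹) he
    rw [cj_cj, cj_cj, inv_mul_cancel, cj_one] at this
    exact this.symm
  have hsub : A ∪ B ⊆ {L | ∃ g ∈ X, L = cj g X'} := by
    rintro L (⟨g, hg, rfl⟩ | ⟨g, hg, rfl⟩)
    · exact ⟨g, hYX hg, rfl⟩
    · exact ⟨g * g₀, X.mul_mem (hYX hg) hg₀, cj_cj _ _ _⟩
  have := Set.ncard_le_ncard hsub (Set.toFinite _)
  rw [Set.ncard_union_eq hd (Set.toFinite _) (Set.toFinite _)] at this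
  omega

omit [MulAction G Ω] hp in
theorem ncard_pairs_snd (Q : Set (Ω × Ω)) (B : Set Ω) :
    {q ∈ Q | q.2 ∈ B}.ncard = ∑ v ∈ B.toFinite.toFinset, {w | (w, v) ∈ Q}.ncard := by
  classical
  haveI := Fintype.ofFinite Ω
  rw [Set.ncard_eq_toFinset_card',
    Finset.card_eq_sum_card_fiberwise (f := Prod.snd) (t := B.toFinite.toFinset)
      (by intro q hq; simp at hq ⊢; exact hq.2)]
  refine Finset.sum_congr rfl fun v hv => ?_
  have h2 : ∀ w : Ω, Function.Injective fun w : Ω => (w, v) := fun _ a b h => (Prod.mk.inj h).1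
  rw [Set.ncard_eq_toFinset_card', ← Finset.card_image_of_injective _ (h2 v)]
  congr 1
  ext ⟨a, b⟩
  simp only [Set.Finite.mem_toFinset] at hv
  simp
  constructor
  · rintro ⟨⟨h, -⟩, rfl⟩; exact ⟨h, rfl⟩
  · rintro ⟨h, rfl⟩; exact ⟨⟨h, hv⟩, rfl⟩

omit [MulAction G Ω] hp in
theorem ncard_pairs_fst (Q : Set (Ω × Ω)) (B : Set Ω) :
    {q ∈ Q | q.1 ∈ B}.ncard = ∑ v ∈ B.toFinite.toFinset, {w | (v, w) ∈ Q}.ncard := by
  have := ncard_pairs_snd (Prod.swap ⁻¹' Q) B
  rw [← Set.ncard_preimage_of_injective_subset_range (f := Prod.swap)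
    Prod.swap_injective (by simp [Prod.swap_surjective.range_eq])]
  exact this

/-- A point with a nested closure has few fixed points in its orbit. -/
theorem Ctx.pair_bound (C : Ctx G Ω p) {T : Set Ω} (hX : pGen p (fixingSubgroup G T) ≠ ⊤)
    {R : Sylow p G} (hR : (R : Subgroup G) ≤ pGen p (fixingSubgroup G T)) {w z : Ω}
    (hwz : z ∈ fixSet (XX p T w : Subgroup G))
    (hzw : w ∉ fixSet (XX p T z : Subgroup G))
    (hz : z ∉ fixSet (pGen p (fixingSubgroup G T))) :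
    (2 * p - 1) ^ 2 *
        (orbit (pGen p (fixingSubgroup G T)) w ∩ fixSet (R : Subgroup G)).ncard ≤
      (p - 1) ^ 2 * (orbit (pGen p (fixingSubgroup G T)) w).ncard := by
  set X := pGen p (fixingSubgroup G T) with hXdef
  set F : Set Ω := fixSet (R : Subgroup G) with hF
  set Q : Set (Ω × Ω) := {q | ∃ g ∈ X, q = (g • w, g • z)} with hQ
  have hXfix : ∀ g ∈ X, g ∈ fixingSubgroup G T := fun g hg => pGen_le _ hg
  have hQinv : ∀ g ∈ X, ∀ q : Ω × Ω, (g • q.1, g • q.2) ∈ Q ↔ q ∈ Q := by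
    intro g hg q
    constructor
    · rintro ⟨h, hh, he⟩
      refine ⟨g⁻¹ * h, X.mul_mem (X.inv_mem hg) hh, ?_⟩
      have h1 := congrArg Prod.fst he
      have h2 := congrArg Prod.snd he
      simp only at h1 h2
      ext <;> simp [mul_smul, ← h1, ← h2]
    · rintro ⟨h, hh, rfl⟩
      exact ⟨g * h, X.mul_mem hg hh, by simp [mul_smul]⟩
  set O := orbit X w with hO
  set Oz := orbit X z with hOz
  set l := {v | (w, v) ∈ Q}.ncard with hl
  set r := {v | (v, z) ∈ Q}.ncard with hr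
  have hfib1 : ∀ w' ∈ O, {v | (w', v) ∈ Q}.ncard = l := by
    rintro _ ⟨g, rfl⟩
    rw [hl, ← Set.ncard_image_of_injective {v | (w, v) ∈ Q} (MulAction.injective (g : G))]
    congr 1
    ext v
    constructor
    · intro hv
      refine ⟨(g : G)⁻¹ • v, ?_, smul_inv_smul _ _⟩
      have := (hQinv _ (X.inv_mem g.2) _).2 hv
      simpa [Subgroup.smul_def] using this
    · rintro ⟨v', hv', rfl⟩
      exact (hQinv _ g.2 _).2 hv'
  have hfib2 : ∀ z' ∈ Oz, {v | (v, z') ∈ Q}.ncard = r := by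
    rintro _ ⟨g, rfl⟩
    rw [hr, ← Set.ncard_image_of_injective {v | (v, z) ∈ Q} (MulAction.injective (g : G))]
    congr 1
    ext v
    constructor
    · intro hv
      refine ⟨(g : G)⁻¹ • v, ?_, smul_inv_smul _ _⟩
      have := (hQinv _ (X.inv_mem g.2) _).2 hv
      simpa [Subgroup.smul_def] using this
    · rintro ⟨v', hv', rfl⟩
      exact (hQinv _ g.2 _).2 hv'
  have hQ1 : Q.ncard = O.ncard * l := by
    have h1 : Q = {q ∈ Q | q.1 ∈ O} := by
      ext q
      refine ⟨fun h => ⟨h, ?_⟩, fun h => h.1⟩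
      obtain ⟨g, hg, rfl⟩ := h
      exact ⟨⟨g, hg⟩, rfl⟩
    rw [h1, ncard_pairs_fst, Finset.sum_congr rfl (g := fun _ => l), Finset.sum_const,
      smul_eq_mul, ← Set.ncard_eq_toFinset_card]
    intro v hv
    exact hfib1 v ((Set.Finite.mem_toFinset _).1 hv)
  have hQ2 : Q.ncard = Oz.ncard * r := by
    have h1 : Q = {q ∈ Q | q.2 ∈ Oz} := by
      ext q
      refine ⟨fun h => ⟨h, ?_⟩, fun h => h.1⟩
      obtain ⟨g, hg, rfl⟩ := h
      exact ⟨⟨g, hg⟩, rfl⟩
    rw [h1, ncard_pairs_snd, Finset.sum_congr rfl (g := fun _ => r), Finset.sum_const,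
      smul_eq_mul, ← Set.ncard_eq_toFinset_card]
    intro v hv
    exact hfib2 v ((Set.Finite.mem_toFinset _).1 hv)
  have hXgen : pGen p X = X := pGen_idem _
  have hFz : ∀ q ∈ Q, q.1 ∈ F → q.2 ∈ Oz ∩ F := by
    rintro _ ⟨g, hg, rfl⟩ hf
    refine ⟨⟨⟨g, hg⟩, rfl⟩, fixSet_anti ?_ (smul_mem_fixSet_cj.2 hwz)⟩
    rw [← XX_smul (hXfix g hg)]
    refine isPGroup_le_pGen R.isPGroup' (le_fixing_iff.2 (Set.insert_subset hf ?_))
    exact le_fixing_iff.1 (hR.trans (pGen_le _))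
  set Q' : Set (Ω × Ω) := {q ∈ Q | q.1 ∈ F} with hQ'
  have hL : Q'.ncard = (O ∩ F).ncard * l := by
    have h1 : Q' = {q ∈ Q | q.1 ∈ O ∩ F} := by
      ext q
      refine ⟨fun h => ⟨h.1, ?_, h.2⟩, fun h => ⟨h.1, h.2.2⟩⟩
      obtain ⟨g, hg, rfl⟩ := h.1
      exact ⟨⟨g, hg⟩, rfl⟩
    rw [h1, ncard_pairs_fst, Finset.sum_congr rfl (g := fun _ => l), Finset.sum_const,
      smul_eq_mul, ← Set.ncard_eq_toFinset_card]
    intro v hv
    exact hfib1 v ((Set.Finite.mem_toFinset _).1 hv).1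
  have hper : ∀ z' ∈ Oz ∩ F,
      (2 * p - 1) * {v | (v, z') ∈ Q'}.ncard ≤ (p - 1) * r := by
    intro z' hz'
    rw [← hfib2 z' hz'.1]
    set Y' : Subgroup G := XX p T z' with hY'
    have hY'X : Y' ≤ X := XX_le T z'
    have hRY : (R : Subgroup G) ≤ Y' := by
      refine isPGroup_le_pGen R.isPGroup' (le_fixing_iff.2 (Set.insert_subset hz'.2 ?_))
      exact le_fixing_iff.1 (hR.trans (pGen_le _))
    have e : {v | (v, z') ∈ Q'} = {v | (v, z') ∈ Q} ∩ F := rfl
    rw [e]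
    refine invariant_bound Y' F _ _ _ ?_ ?_
    · intro g hg v hv
      have := (hQinv g (hY'X hg) (v, z')).2 hv
      simp only at this
      rwa [mem_fixSet_XX T z' g hg] at this
    · intro v hv
      refine C.ih Y' (fun h => hX (top_le_iff.1 (h ▸ hY'X))) (pGen_idem _) R hRY v ?_
      intro hfix
      obtain ⟨g, hg, he⟩ := hv
      simp only [Prod.mk.injEq] at he
      rw [hY', he.2, he.1, XX_smul (hXfix g hg), smul_mem_fixSet_cj] at hfix
      exact hzw hfix
  have hsum : (2 * p - 1) * Q'.ncard ≤ (Oz ∩ F).ncard * ((p - 1) * r) := by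
    have h1 : Q' = {q ∈ Q' | q.2 ∈ Oz ∩ F} := by
      ext q
      exact ⟨fun h => ⟨h, hFz q h.1 h.2⟩, fun h => h.1⟩
    rw [h1, ncard_pairs_snd, Finset.mul_sum]
    rw [Set.ncard_eq_toFinset_card (Oz ∩ F) (Set.toFinite _)]
    refine le_trans ?_ (le_of_eq (Finset.sum_const _ |>.trans (smul_eq_mul _ _)))
    exact Finset.sum_le_sum fun v hv => hper v ((Set.Finite.mem_toFinset _).1 hv)
  have hOzb : (2 * p - 1) * (Oz ∩ F).ncard ≤ (p - 1) * Oz.ncard := C.ih X hX hXgen R hR z hz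
  have hlpos : 0 < l :=
    (Set.ncard_pos (Set.toFinite _)).2 ⟨z, 1, X.one_mem, by simp⟩
  refine Nat.le_of_mul_le_mul_right ?_ hlpos
  calc (2 * p - 1) ^ 2 * (O ∩ F).ncard * l
      = (2 * p - 1) * ((2 * p - 1) * Q'.ncard) := by rw [hL]; ring
    _ ≤ (2 * p - 1) * ((Oz ∩ F).ncard * ((p - 1) * r)) := Nat.mul_le_mul_left _ hsum
    _ = ((2 * p - 1) * (Oz ∩ F).ncard) * ((p - 1) * r) := by ring
    _ ≤ ((p - 1) * Oz.ncard) * ((p - 1) * r) := Nat.mul_le_mul_right _ hOzb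
    _ = (p - 1) ^ 2 * (Oz.ncard * r) := by ring
    _ = (p - 1) ^ 2 * O.ncard * l := by rw [← hQ2, hQ1]; ring

/-- Nested closures cannot occur at a level below `p`. -/
theorem Ctx.nested_false (C : Ctx G Ω p) {T : Set Ω}
    (hX : pGen p (fixingSubgroup G T) ≠ ⊤) {Wn : Set Ω} (hWne : Wn.Nonempty)
    {X' : Subgroup G} (hX'full : Full p X') (hXX : ∀ w ∈ Wn, XX p T w = X')
    (hWX : ∀ w ∈ Wn, w ∉ fixSet (pGen p (fixingSubgroup G T)))
    {z : Ω} (hz : z ∉ fixSet (pGen p (fixingSubgroup G T)))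
    (hX'Y : X' ≤ XX p T z) (hne : XX p T z ≠ X')
    (hYw : ∀ w ∈ Wn, w ∉ fixSet (XX p T z : Subgroup G))
    (hsize : (fixSet (pGen p (fixingSubgroup G T)) : Set Ω).ncard ≤ (p - 1) * Wn.ncard) :
    False := by
  set X := pGen p (fixingSubgroup G T) with hXdef
  obtain ⟨R, hR'⟩ := hX'full
  obtain ⟨w₀, hw₀⟩ := hWne
  have hX'X : X' ≤ X := by rw [← hXX w₀ hw₀]; exact XX_le T w₀
  have hX'gen : pGen p X' = X' := by rw [← hXX w₀ hw₀]; exact pGen_idem _
  have hR : (R : Subgroup G) ≤ X := hR'.trans hX'X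
  set W : Set Ω := {v | ∃ g ∈ X, ∃ w ∈ Wn, v = g • w} with hW
  have hWinv : ∀ g ∈ X, ∀ v ∈ W, g • v ∈ W := by
    rintro g hg _ ⟨h, hh, w, hw, rfl⟩
    exact ⟨g * h, X.mul_mem hg hh, w, hw, (mul_smul g h w).symm⟩
  have hWdisj : ∀ v ∈ W, v ∉ (fixSet X : Set Ω) := by
    rintro _ ⟨h, hh, w, hw, rfl⟩ hfix
    refine hWX w hw fun g hg => ?_
    have := hfix (h * g * h⁻¹) (X.mul_mem (X.mul_mem hh hg) (X.inv_mem hh))
    rwa [smul_smul, inv_mul_cancel_right, mul_smul, smul_left_cancel_iff] at this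
  have hb : (2 * p - 1) ^ 2 * (W ∩ fixSet (R : Subgroup G)).ncard ≤ (p - 1) ^ 2 * W.ncard := by
    refine invariant_bound X _ W _ _ hWinv ?_
    rintro _ ⟨h, hh, w, hw, rfl⟩
    have e : orbit X (h • w) = orbit X w := by
      rw [MulAction.orbit_eq_iff]
      exact ⟨⟨h, hh⟩, rfl⟩
    rw [e]
    refine C.pair_bound hX hR ?_ (hYw w hw) hz
    rw [hXX w hw]
    exact fixSet_anti hX'Y (mem_fixSet_XX T z)
  set Ks := {L | ∃ g ∈ X, L = cj g X'} with hKs
  have hK : 2 * p ≤ Ks.ncard :=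
    conjugates_ge (pGen_idem _) hX'gen (pGen_idem _) ⟨R, hR'⟩ hX'Y (XX_le T z) hne
      (mem_fixSet_XX T z) hz
  have hWcard : Ks.ncard * Wn.ncard ≤ W.ncard := by
    classical
    rw [← Set.ncard_prod]
    choose γ hγ hγe using fun L : Ks => L.2
    refine Set.ncard_le_ncard_of_injOn
      (fun q => if h : q.1 ∈ Ks then γ ⟨q.1, h⟩ • q.2 else q.2) ?_ ?_ (Set.toFinite _)
    · rintro ⟨L, w⟩ ⟨hL, hw⟩
      simp only [dif_pos hL]
      exact ⟨_, hγ _, w, hw, rfl⟩
    · rintro ⟨L, w⟩ ⟨hL, hw⟩ ⟨L', w'⟩ ⟨hL', hw'⟩ he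
      simp only [dif_pos hL, dif_pos hL'] at he
      have h1 : XX p T (γ ⟨L, hL⟩ • w) = L := by
        rw [XX_smul (pGen_le _ (hγ _)), hXX w hw]
        exact (hγe ⟨L, hL⟩).symm
      have h2 : XX p T (γ ⟨L', hL'⟩ • w') = L' := by
        rw [XX_smul (pGen_le _ (hγ _)), hXX w' hw']
        exact (hγe ⟨L', hL'⟩).symm
      have hLL : L = L' := by rw [← h1, ← h2, he]
      subst hLL
      rw [MulAction.injective _ he]
  have hkey := C.key hX (pGen_idem _) hR hWinv hWdisj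
  obtain ⟨q, rfl⟩ : ∃ q, p = q + 1 := ⟨p - 1, by have := hp.out.two_le; omega⟩
  simp only [Nat.add_sub_cancel] at hb hsize hkey
  have e : 2 * (q + 1) - 1 = 2 * q + 1 := by omega
  rw [e] at hb hkey
  set w := W.ncard
  set f := (W ∩ fixSet (R : Subgroup G)).ncard
  set s := (fixSet X : Set Ω).ncard
  set a := Wn.ncard
  have hw : 2 * (q + 1) * a ≤ w := (Nat.mul_le_mul_right a hK).trans hWcard
  have h1 : q * (q + 1) * w < (q + 1) * (2 * q + 1) * s := by
    nlinarith [Nat.mul_lt_mul_of_pos_right hkey (show 0 < 2 * q + 1 by omega)]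
  have h2 : q * (q + 1) * (2 * (q + 1) * a) < (q + 1) * (2 * q + 1) * (q * a) :=
    lt_of_le_of_lt (Nat.mul_le_mul_left _ hw) (h1.trans_le (Nat.mul_le_mul_left _ hsize))
  nlinarith

end Cfsg.Agent.SylowFix
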